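import Groth.Agent.ProjLocalFree.Main
import Groth.Agent.SmoothFree.Irred

/-! Smooth algebras with geometrically irreducible fibres are projective modules. -/

set_option autoImplicit false
set_option backward.isDefEq.respectTransparency false
set_option backward.isDefEq.respectTransparency.types false
attribute [-instance] CategoryTheory.catToReflQuiver

universe u

open TensorProduct

namespace Groth.Agent.ProjLocalFree

theorem projective_of_geomIrred {R B : Type u} [CommRing R] [CommRing B] [Algebra R B] [Algebra.Smooth R B]
    (h : FlatCA.GeomIrredFibres R B) : Module.Projective R B :=
  projective_of_localFree R B fun p _ => SmoothFree.free_of_geomIrred (DevExist.geomIrred_baseChange h)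

end Groth.Agent.ProjLocalFree
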