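import Groth.Agent.ProjLocalFree.Main
import Groth.Agent.SmoothFree.Main
import Groth.Agent.RGLib.GeomIntegral

/-! Flat finitely presented algebras with geometrically integral fibres are projective. -/

set_option autoImplicit false
set_option backward.isDefEq.respectTransparency false
attribute [-instance] CategoryTheory.catToReflQuiver

universe u

open TensorProduct

namespace Groth.Agent.ProjLocalFree

theorem projective_of_geomIntegral {R B : Type u} [CommRing R] [CommRing B] [Algebra R B]
    [Algebra.FinitePresentation R B] [Module.Flat R B] (h : FlatCA.GeomIntegralFibres R B) : Module.Projective R B :=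
  projective_of_localFree R B fun p _ =>
    SmoothFree.free_of_flat (Localization.AtPrime p) (Localization.AtPrime p ⊗[R] B) fun K _ _ => by
      letI : Algebra R K := ((algebraMap (Localization.AtPrime p) K).comp (algebraMap R _)).toAlgebra
      haveI : IsScalarTower R (Localization.AtPrime p) K := IsScalarTower.of_algebraMap_eq fun _ => rfl
      haveI := RGLib.isDomain_tensor_field h K
      exact (Algebra.TensorProduct.cancelBaseChange R (Localization.AtPrime p) K K B).toRingEquiv.toMulEquiv.isDomain _

end Groth.Agent.ProjLocalFree
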