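import Groth.Agent.ProjLocalFree.Indep
import Groth.Agent.CAlgUI.FlatML
import Groth.Agent.CAlgUI.Countable

/-! A flat, finitely presented module over a finitely presented algebra with free localisations is projective. -/

set_option autoImplicit false
set_option backward.isDefEq.respectTransparency false
set_option backward.isDefEq.respectTransparency.types false

universe u

open TensorProduct

namespace Groth.Agent.ProjLocalFree

variable {R : Type u} [CommRing R] {M : Type u} [AddCommGroup M] [Module R M]
  {B : Type u} [CommRing B] [Algebra R B] [Algebra.FinitePresentation R B] [Module B M] [IsScalarTower R B M]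
  [Module.FinitePresentation B M]

theorem mem_range_rTensor_iff {F : Type u} [AddCommGroup F] [Module R F] (F'' : Submodule R F) (x : F ⊗[R] M) :
    x ∈ LinearMap.range (F''.subtype.rTensor M) ↔ F''.mkQ.rTensor M x = 0 :=
  ((rTensor_exact M (LinearMap.exact_subtype_mkQ F'') (Submodule.mkQ_surjective F'')) x).symm

include B

theorem exists_chart [Module.Flat R M] {n : ℕ} (x : (Fin n → R) ⊗[R] M) (p : Ideal R) [p.IsPrime]
    [Module.Free (Localization.AtPrime p) (Localization.AtPrime p ⊗[R] M)] :
    ∃ g ∉ p, ∃ (m : ℕ) (c : Fin m → Fin n → R) (y : Fin m → M),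
      (∀ (q : Ideal R) [q.IsPrime], g ∉ q → Indep R y q.ResidueField) ∧ g • x = ∑ k, c k ⊗ₜ[R] y k := by
  classical
  let xs : Fin n → M := TensorProduct.lid R M ∘ fun i => (LinearMap.proj i).rTensor M x
  have hx : x = ∑ i, (Pi.single i 1 : Fin n → R) ⊗ₜ[R] xs i := by
    induction x using TensorProduct.induction_on with
    | zero => simp [xs]
    | add a b ha hb =>
      conv_lhs => rw [ha, hb]
      rw [← Finset.sum_add_distrib]
      simp [xs, TensorProduct.tmul_add]
    | tmul v z =>
      simp only [xs, Function.comp_apply, LinearMap.rTensor_tmul, TensorProduct.lid_tmul, LinearMap.proj_apply,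
        TensorProduct.tmul_smul, TensorProduct.smul_tmul', ← TensorProduct.sum_tmul]
      congr 1
      exact pi_eq_sum_univ' v
  let L := Localization.AtPrime p
  let b := Module.Free.chooseBasis L (L ⊗[R] M)
  let ι : M →ₗ[R] L ⊗[R] M := TensorProduct.mk R L M 1
  let s : Finset _ := Finset.univ.biUnion fun i => (b.repr (ι (xs i))).support
  let m := s.card
  let ei : Fin m → L ⊗[R] M := fun k => b (s.equivFin.symm k).1
  have hexp : ∀ i, ι (xs i) = ∑ k, b.repr (ι (xs i)) (s.equivFin.symm k).1 • ei k := fun i => by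
    rw [Equiv.sum_comp s.equivFin.symm (fun z => b.repr (ι (xs i)) z.1 • b z.1)]
    conv_lhs => rw [← b.linearCombination_repr (ι (xs i)),
      Finsupp.linearCombination_apply_of_mem_supported L (s := s)
        ((Finsupp.mem_supported L _).2 fun j hj => Finset.mem_biUnion.2 ⟨i, Finset.mem_univ i, hj⟩)]
    exact (Finset.sum_coe_sort s (fun z => b.repr (ι (xs i)) z • b z)).symm
  haveI : IsLocalizedModule p.primeCompl ι :=
    (isLocalizedModule_iff_isBaseChange p.primeCompl L ι).2 (TensorProduct.isBaseChange R M L)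
  have hnum : ∀ k, ∃ (y : M) (t : p.primeCompl), ι y = algebraMap R L t • ei k := fun k => by
    obtain ⟨⟨y, t⟩, h⟩ := IsLocalizedModule.surj p.primeCompl ι (ei k)
    exact ⟨y, t, by rw [algebraMap_smul]; exact h.symm⟩
  choose y t hy using hnum
  have hindep : Indep R y p.ResidueField := by
    intro c hc
    let K := p.ResidueField
    let e := TensorProduct.AlgebraTensorModule.cancelBaseChange R L K K M
    have h0 : ∑ k, (c k * algebraMap R K (t k)) ⊗ₜ[L] ei k = 0 := by
      refine e.injective ?_
      rw [map_zero, ← hc, map_sum]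
      refine Finset.sum_congr rfl fun k _ => ?_
      rw [mul_comm, IsScalarTower.algebraMap_apply R L K, ← Algebra.smul_def, TensorProduct.smul_tmul, ← hy]
      simp [e, ι]
    funext k
    have h1 := congrArg (fun z => (Module.Basis.baseChange p.ResidueField b).repr z (s.equivFin.symm k).1) h0
    simp only [map_sum, map_zero, Finsupp.finsetSum_apply, Finsupp.zero_apply, ei, Module.Basis.baseChange_repr_tmul,
      Module.Basis.repr_self, Finsupp.single_apply] at h1
    rw [Finset.sum_eq_single k (fun l _ hl => by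
        rw [if_neg fun h => hl (s.equivFin.symm.injective (Subtype.ext h)), zero_smul])
      (fun h => absurd (Finset.mem_univ k) h), if_pos rfl, one_smul, mul_eq_zero] at h1
    exact h1.resolve_right fun h => (t k).2 (Ideal.algebraMap_residueField_eq_zero.1 h)
  obtain ⟨g₂, hg₂, hg₂y⟩ := exists_indep_basicOpen (B := B) y p hindep
  let a : Fin n × Fin m → L := fun ik =>
    b.repr (ι (xs ik.1)) (s.equivFin.symm ik.2).1 * IsLocalization.mk' L (1 : R) (t ik.2)
  obtain ⟨D, hD⟩ := IsLocalization.exist_integer_multiples_of_finite p.primeCompl a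
  choose bb hbb using hD
  have hkill : ∀ i, ι ((D : R) • xs i) = ι (∑ k, bb (i, k) • y k) := fun i => by
    rw [map_smul, hexp i, Finset.smul_sum, map_sum]
    refine Finset.sum_congr rfl fun k _ => ?_
    rw [map_smul, hy, ← algebraMap_smul L (bb (i, k)), hbb, smul_smul, ← algebraMap_smul L (D : R), smul_smul,
      Algebra.smul_def]
    congr 1
    simp only [a]
    rw [mul_assoc, mul_assoc, IsLocalization.mk'_spec, map_one, mul_one]
  choose s' hs' using fun i => IsLocalizedModule.exists_of_eq (S := p.primeCompl) (hkill i)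
  let S : R := ∏ i, (s' i : R)
  have hS : S ∉ p := fun h => by
    obtain ⟨i, -, hi⟩ := (Ideal.IsPrime.prod_mem_iff).1 h
    exact (s' i).2 hi
  refine ⟨S * D * g₂, fun h => ?_, m, fun k i => g₂ * S * bb (i, k), y, fun q _ hq => hg₂y q fun h => hq (Ideal.mul_mem_left _ _ h), ?_⟩
  · rcases Ideal.IsPrime.mem_or_mem ‹_› h with h | h
    · exact (Ideal.IsPrime.mem_or_mem ‹_› h).elim hS D.2
    · exact hg₂ h
  have hSx : ∀ i, (S * D * g₂) • xs i = ∑ k, (g₂ * S * bb (i, k)) • y k := fun i => by
    obtain ⟨r, hr⟩ := Finset.dvd_prod_of_mem (fun i => (s' i : R)) (Finset.mem_univ i)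
    have hr' : S = r * (s' i : R) := hr.trans (mul_comm _ _)
    calc (S * D * g₂) • xs i = (g₂ * r) • ((s' i : R) • ((D : R) • xs i)) := by
          rw [smul_smul, smul_smul, hr']; congr 1; ring
      _ = (g₂ * r) • ((s' i : R) • ∑ k, bb (i, k) • y k) := congrArg _ (hs' i)
      _ = _ := by
          rw [Finset.smul_sum, Finset.smul_sum]
          exact Finset.sum_congr rfl fun k _ => by rw [smul_smul, smul_smul, hr']; congr 1; ring
  rw [hx, Finset.smul_sum]
  calc ∑ i, (S * ↑D * g₂) • ((Pi.single i 1 : Fin n → R) ⊗ₜ[R] xs i)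
      = ∑ i, ∑ k, ((g₂ * S * bb (i, k)) • (Pi.single i 1 : Fin n → R)) ⊗ₜ[R] y k := by
        refine Finset.sum_congr rfl fun i _ => ?_
        rw [← TensorProduct.tmul_smul, hSx, TensorProduct.tmul_sum]
        exact Finset.sum_congr rfl fun k _ => by rw [TensorProduct.smul_tmul]
    _ = ∑ k, (fun i => g₂ * S * bb (i, k)) ⊗ₜ[R] y k := by
        rw [Finset.sum_comm]
        refine Finset.sum_congr rfl fun k _ => ?_
        rw [← TensorProduct.sum_tmul]
        congr 1
        exact (pi_eq_sum_univ' _).symm

/-- The Mittag-Leffler property from free localisations. -/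
theorem ml_of_localFree [Module.Flat R M]
    (hfree : ∀ (p : Ideal R) [p.IsPrime], Module.Free (Localization.AtPrime p) (Localization.AtPrime p ⊗[R] M)) :
    CAlg.IsMittagLeffler R M := by
  classical
  refine Groth.Agent.CAlgUI.ml_of_exists_smallest fun n x => ?_
  choose g hg m c y hind hgx using fun p : PrimeSpectrum R =>
    haveI := hfree p.asIdeal
    exists_chart (B := B) x p.asIdeal
  have hcov : Ideal.span (Set.range g) = ⊤ := by
    by_contra hne
    obtain ⟨P, hP, hle⟩ := Ideal.exists_le_maximal _ hne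
    exact hg ⟨P, hP.isPrime⟩ (hle (Ideal.subset_span ⟨_, rfl⟩))
  obtain ⟨T, hTsub, hT⟩ := Submodule.mem_span_finite_of_mem_span (hcov ▸ Submodule.mem_top (x := (1 : R)))
  choose π hπ using fun r : T => hTsub r.2
  -- every submodule through which a multiple of the element factors contains multiples of the coefficients
  have key : ∀ (i : PrimeSpectrum R) (h : R) (F'' : Submodule R (Fin n → R)),
      h • x ∈ LinearMap.range (F''.subtype.rTensor M) → ∃ a : ℕ, ∀ k, g i ^ a • h • c i k ∈ F'' := by
    intro i h F'' hF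
    have h0 : F''.mkQ.rTensor M (g i • h • x) = 0 := by
      rw [map_smul, (mem_range_rTensor_iff F'' _).1 hF, smul_zero]
    rw [smul_comm, hgx, Finset.smul_sum, map_sum] at h0
    obtain ⟨a, ha⟩ := kill_on_basicOpen (y i) (g i) (hind i) (fun k => F''.mkQ (h • c i k)) (by
      rw [← h0]
      exact Finset.sum_congr rfl fun k _ => by rw [TensorProduct.smul_tmul', LinearMap.rTensor_tmul])
    exact ⟨a, fun k => (Submodule.Quotient.mk_eq_zero F'').1 (by rw [Submodule.Quotient.mk_smul]; exact ha k)⟩
  let sp : T → Submodule R (Fin n → R) := fun l => Submodule.span R (Set.range (c (π l)))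
  have hsp : ∀ l : T, g (π l) • x ∈ LinearMap.range ((sp l).subtype.rTensor M) := fun l => by
    rw [hgx]
    refine Submodule.sum_mem _ fun k _ => ⟨(⟨c (π l) k, Submodule.subset_span ⟨k, rfl⟩⟩ : sp l) ⊗ₜ[R] y (π l) k, ?_⟩
    rw [LinearMap.rTensor_tmul]
    rfl
  choose a ha using fun il : T × T => key (π il.1) (g (π il.2)) (sp il.2) (hsp il.2)
  let N := ∑ il : T × T, a il
  let G : Submodule R (Fin n → R) := Submodule.span R
    (Set.range fun ik : (i : T) × Fin (m (π i)) => g (π ik.1) ^ N • c (π ik.1) ik.2)
  have hspan : ∀ e : ℕ, Ideal.span (Set.range fun i : T => g (π i) ^ e) = ⊤ := fun e => by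
    have h1 : Ideal.span (Set.range fun i : T => g (π i)) = ⊤ := by
      rw [show (Set.range fun i : T => g (π i)) = (T : Set R) by
        ext r
        exact ⟨by rintro ⟨i, rfl⟩; show g (π i) ∈ T; rw [hπ]; exact i.2, fun hr => ⟨⟨r, hr⟩, hπ _⟩⟩]
      exact (Ideal.eq_top_iff_one _).2 hT
    have h2 := Ideal.span_pow_eq_top _ h1 e
    rw [← Set.range_comp] at h2
    exact h2
  refine ⟨G, ?_, fun F'' hF'' => ?_⟩
  · rw [mem_range_rTensor_iff]
    refine (Submodule.span_singleton_eq_bot (R := R)).1 ?_
    rw [eq_bot_iff]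
    let I : Ideal R := (Submodule.span R {G.mkQ.rTensor M x}).annihilator
    have hI : I = ⊤ := by
      rw [eq_top_iff, ← hspan (N + 1), Ideal.span_le]
      rintro _ ⟨l, rfl⟩
      refine (Submodule.mem_annihilator_span_singleton _ _).2 ?_
      show g (π l) ^ (N + 1) • G.mkQ.rTensor M x = 0
      rw [pow_succ, mul_smul, ← map_smul, ← map_smul, hgx, ← mem_range_rTensor_iff, Finset.smul_sum]
      refine Submodule.sum_mem _ fun k _ => ⟨(⟨g (π l) ^ N • c (π l) k, Submodule.subset_span ⟨⟨l, k⟩, rfl⟩⟩ : G) ⊗ₜ[R]
        y (π l) k, ?_⟩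
      rw [LinearMap.rTensor_tmul, TensorProduct.smul_tmul']
      rfl
    have h1 := (Submodule.mem_annihilator_span_singleton (G.mkQ.rTensor M x) (1 : R)).1
      (show (1 : R) ∈ I from hI ▸ Submodule.mem_top)
    rw [Submodule.span_singleton_le_iff_mem, Submodule.mem_bot]
    rwa [one_smul] at h1
  · rw [Submodule.span_le]
    rintro _ ⟨⟨i, k⟩, rfl⟩
    show g (π i) ^ N • c (π i) k ∈ F''
    have hl : ∀ l : T, ∃ e : ℕ, g (π l) ^ e • (g (π i) ^ N • c (π i) k) ∈ F'' := fun l => by
      obtain ⟨e, he⟩ := key (π l) 1 F'' (by rwa [one_smul])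
      have hle : sp l ≤ F''.comap (LinearMap.lsmul R (Fin n → R) (g (π l) ^ e)) := by
        rw [Submodule.span_le]
        rintro _ ⟨j, rfl⟩
        show g (π l) ^ e • c (π l) j ∈ F''
        simpa using he j
      refine ⟨e + 1, ?_⟩
      have h1 : g (π l) • g (π i) ^ N • c (π i) k ∈ sp l := by
        have h2 := ha (i, l) k
        obtain ⟨d, hd⟩ := Nat.le.dest (Finset.single_le_sum (f := a) (fun _ _ => Nat.zero_le _) (Finset.mem_univ (i, l)))
        rw [show N = d + a (i, l) by rw [add_comm]; exact hd.symm, pow_add, mul_smul, smul_comm (g (π l)),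
          smul_comm (g (π l))]
        exact Submodule.smul_mem _ _ h2
      rw [pow_succ, mul_smul]
      exact hle h1
    choose e he using hl
    let J : Ideal R := (Submodule.span R {F''.mkQ (g (π i) ^ N • c (π i) k)}).annihilator
    have hJ : J = ⊤ := by
      rw [eq_top_iff, ← hspan (∑ l, e l), Ideal.span_le]
      rintro _ ⟨l, rfl⟩
      refine (Submodule.mem_annihilator_span_singleton _ _).2 ?_
      obtain ⟨d, hd⟩ := Nat.le.dest (Finset.single_le_sum (f := e) (fun _ _ => Nat.zero_le _) (Finset.mem_univ l))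
      show g (π l) ^ (∑ l, e l) • F''.mkQ _ = 0
      rw [← hd, add_comm, pow_add, mul_smul, ← map_smul, Submodule.mkQ_apply, (Submodule.Quotient.mk_eq_zero F'').2 (he l),
        smul_zero]
    have h1 := (Submodule.mem_annihilator_span_singleton _ (1 : R)).1 (show (1 : R) ∈ J from hJ ▸ Submodule.mem_top)
    rw [one_smul] at h1
    exact (Submodule.Quotient.mk_eq_zero F'').1 h1

omit B

/-- A flat finitely presented algebra with free localisations at primes is a projective module. -/
theorem projective_of_localFree (R B : Type u) [CommRing R] [CommRing B] [Algebra R B]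
    [Algebra.FinitePresentation R B] [Module.Flat R B]
    (hfree : ∀ (p : Ideal R) [p.IsPrime], Module.Free (Localization.AtPrime p) (Localization.AtPrime p ⊗[R] B)) :
    Module.Projective R B := by
  refine Groth.Agent.CAlgUI.projective_of_flat_ml_countablyGenerated (ml_of_localFree (B := B) hfree) ?_
  obtain ⟨k, f, hf⟩ := Algebra.FiniteType.iff_quotient_mvPolynomial''.1 (inferInstance : Algebra.FiniteType R B)
  refine ⟨f '' Set.range fun d : Fin k →₀ ℕ => MvPolynomial.monomial d (1 : R), (Set.countable_range _).image _, ?_⟩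
  show Submodule.span R (f.toLinearMap '' _) = ⊤
  rw [Submodule.span_image, show Submodule.span R (Set.range fun d : Fin k →₀ ℕ => MvPolynomial.monomial d (1 : R)) = ⊤
    from (MvPolynomial.basisMonomials (Fin k) R).span_eq, Submodule.map_top, LinearMap.range_eq_top]
  exact hf

end Groth.Agent.ProjLocalFree
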