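import Groth.Agent.FlatSyz5.GenFreeNil
import Groth.Agent.S0448
import Mathlib.Topology.Spectral.ConstructibleTopology
import Mathlib.RingTheory.Spectrum.Prime.Topology
import Mathlib.RingTheory.Support

/-!
Elements of a module independent in the fibre at a prime are independent in the fibres nearby, for flat modules
with finite presentation over a finitely presented algebra.
-/

set_option autoImplicit false
set_option backward.isDefEq.respectTransparency false
set_option backward.isDefEq.respectTransparency.types false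

universe u

open TensorProduct Topology

namespace Groth.Agent.ProjLocalFree

variable {R : Type u} [CommRing R] {M : Type u} [AddCommGroup M] [Module R M]

/-- A family is independent after extending scalars to a field. -/
def Indep (R : Type u) [CommRing R] {M : Type u} [AddCommGroup M] [Module R M] {m : ℕ} (y : Fin m → M) (K : Type u)
    [Field K] [Algebra R K] : Prop :=
  ∀ c : Fin m → K, ∑ j, c j ⊗ₜ[R] y j = 0 → c = 0

theorem kill_at_prime [Module.Flat R M] {m : ℕ} (y : Fin m → M) (p : Ideal R) [p.IsPrime]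
    (hy : Indep R y p.ResidueField) {Q : Type u} [AddCommGroup Q] [Module R Q] (c : Fin m → Q)
    (hc : ∑ j, c j ⊗ₜ[R] y j = 0) : ∃ s ∉ p, ∀ j, s • c j = 0 := by
  classical
  let L := Localization.AtPrime p
  let u : (Fin m → L) →ₗ[L] L ⊗[R] M := Fintype.linearCombination L fun j => (1 : L) ⊗ₜ[R] y j
  have hu : Function.Injective (u.lTensor (IsLocalRing.ResidueField L)) := by
    rw [injective_iff_map_eq_zero]
    intro z hz
    let e := TensorProduct.piScalarRight L (IsLocalRing.ResidueField L) (IsLocalRing.ResidueField L) (Fin m)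
    let eM := TensorProduct.AlgebraTensorModule.cancelBaseChange R L (IsLocalRing.ResidueField L)
      (IsLocalRing.ResidueField L) M
    have he : ∀ w, eM (u.lTensor (IsLocalRing.ResidueField L) w) = ∑ j, e w j ⊗ₜ[R] y j := fun w => by
      induction w using TensorProduct.induction_on with
      | zero => simp
      | add a b ha hb => simp only [map_add, Pi.add_apply, TensorProduct.add_tmul, Finset.sum_add_distrib, ha, hb]
      | tmul a v =>
        simp [e, eM, u, Fintype.linearCombination_apply, TensorProduct.tmul_sum, TensorProduct.smul_tmul',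
          TensorProduct.piScalarRight_apply]
    have h0 : e z = 0 := hy (e z) (by rw [← he, hz, map_zero])
    exact e.map_eq_zero_iff.1 h0
  have hinj := Groth.Agent.S0448.result u hu (L ⊗[R] Q)
  let z : (Fin m → L) ⊗[L] (L ⊗[R] Q) := ∑ j, (Pi.single j 1 : Fin m → L) ⊗ₜ[L] ((1 : L) ⊗ₜ[R] c j)
  have hz : u.rTensor (L ⊗[R] Q) z = 0 := by
    let e₂ : (L ⊗[R] M) ⊗[L] (L ⊗[R] Q) ≃ₗ[L] L ⊗[R] (Q ⊗[R] M) :=
      (TensorProduct.comm L (L ⊗[R] M) (L ⊗[R] Q)).trans
        (TensorProduct.AlgebraTensorModule.distribBaseChange R L Q M).symm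
    refine e₂.injective ?_
    rw [map_zero, map_sum, map_sum]
    have : ∀ j, e₂ (u.rTensor (L ⊗[R] Q) ((Pi.single j 1 : Fin m → L) ⊗ₜ[L] ((1 : L) ⊗ₜ[R] c j))) =
        (1 : L) ⊗ₜ[R] (c j ⊗ₜ[R] y j) := fun j => by
      rw [LinearMap.rTensor_tmul]
      show e₂ ((Fintype.linearCombination L fun j => (1 : L) ⊗ₜ[R] y j) (Pi.single j 1) ⊗ₜ[L] _) = _
      rw [Fintype.linearCombination_apply_single, one_smul]
      simp [e₂, LinearEquiv.symm_apply_eq, TensorProduct.AlgebraTensorModule.distribBaseChange]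
    rw [Finset.sum_congr rfl fun j _ => this j, ← TensorProduct.tmul_sum, hc, TensorProduct.tmul_zero]
  have hz0 : z = 0 := hinj (hz.trans (map_zero _).symm)
  have hcj : ∀ j, (1 : L) ⊗ₜ[R] c j = 0 := fun j => by
    have h := congrArg (TensorProduct.lid L (L ⊗[R] Q)) (congrArg ((LinearMap.proj j).rTensor (L ⊗[R] Q)) hz0)
    simpa [z, Pi.single_apply, Finset.sum_ite_eq, apply_ite (fun a : L => a ⊗ₜ[L] _)] using h
  have hs : ∀ j, ∃ s ∉ p, s • c j = 0 := fun j => by
    obtain ⟨s, hs⟩ := (IsLocalizedModule.eq_zero_iff p.primeCompl (TensorProduct.mk R L Q 1)).1 (hcj j)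
    exact ⟨s, s.2, hs⟩
  choose s hsp hsc using hs
  refine ⟨∏ j, s j, fun h => ?_, fun j => ?_⟩
  · obtain ⟨j, -, hj⟩ := (Ideal.IsPrime.prod_mem_iff (s := Finset.univ)).1 h
    exact hsp j hj
  · obtain ⟨t, ht⟩ := Finset.dvd_prod_of_mem s (Finset.mem_univ j)
    rw [ht, mul_comm, mul_smul, hsc, smul_zero]

/-- Independence passes to generalisations. -/
theorem indep_of_le [Module.Flat R M] {m : ℕ} (y : Fin m → M) (p q : Ideal R) [p.IsPrime] [q.IsPrime]
    (hqp : q ≤ p) (hy : Indep R y p.ResidueField) : Indep R y q.ResidueField := by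
  intro c hc
  obtain ⟨s, hs, hsc⟩ := kill_at_prime y p hy c hc
  funext j
  have h := hsc j
  rw [Algebra.smul_def, mul_eq_zero] at h
  exact h.resolve_left fun h0 => hs (hqp (Ideal.algebraMap_residueField_eq_zero.1 h0))

/-- Uniform killing on a basic open. -/
theorem kill_on_basicOpen [Module.Flat R M] {m : ℕ} (y : Fin m → M) (g : R)
    (hy : ∀ (q : Ideal R) [q.IsPrime], g ∉ q → Indep R y q.ResidueField) {Q : Type u} [AddCommGroup Q] [Module R Q]
    (c : Fin m → Q) (hc : ∑ j, c j ⊗ₜ[R] y j = 0) : ∃ k : ℕ, ∀ j, g ^ k • c j = 0 := by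
  let I : Ideal R := ⨅ j, (Submodule.span R {c j}).annihilator
  suffices h : ∃ k : ℕ, g ^ k ∈ I by
    obtain ⟨k, hk⟩ := h
    exact ⟨k, fun j => (Submodule.mem_annihilator_span_singleton _ _).1 (Submodule.mem_iInf _ |>.1 hk j)⟩
  by_contra! hne
  obtain ⟨q, hq, hIq, hdisj⟩ := Ideal.exists_le_prime_disjoint I (Submonoid.powers g)
    (Set.disjoint_right.2 fun _ ⟨k, hk⟩ h => by subst hk; exact hne k h)
  obtain ⟨s, hs, hsc⟩ := kill_at_prime y q (hy q fun h => Set.disjoint_left.1 hdisj h (Submonoid.mem_powers g)) c hc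
  exact hs (hIq (Submodule.mem_iInf _ |>.2 fun j => (Submodule.mem_annihilator_span_singleton _ _).2 (hsc j)))

/-- Independence in a free module spreads to a basic open. -/
theorem exists_indep_free {A N : Type u} [CommRing A] [AddCommGroup N] [Module A N] [Module.Free A N] {m : ℕ}
    (w : Fin m → N) (K : Type u) [Field K] [Algebra A K] (hw : Indep A w K) :
    ∃ h : A, algebraMap A K h ≠ 0 ∧
      ∀ (K' : Type u) [Field K'] [Algebra A K'], algebraMap A K' h ≠ 0 → Indep A w K' := by
  classical
  let D : Submodule A (Fin m → A) := LinearMap.range (LinearMap.pi fun j => LinearMap.applyₗ (w j) :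
    (N →ₗ[A] A) →ₗ[A] Fin m → A)
  let Q := (Fin m → A) ⧸ D
  have hQ : ∀ φ : K ⊗[A] Q →ₗ[K] K, φ = 0 := fun φ => by
    let c : Fin m → K := fun j => φ (1 ⊗ₜ Submodule.Quotient.mk (Pi.single j 1))
    have hc : ∀ ψ : N →ₗ[A] A, ∑ j, ψ (w j) • c j = 0 := fun ψ => by
      have hmem : (fun j => ψ (w j)) ∈ D := ⟨ψ, rfl⟩
      have hq : ∑ j, ψ (w j) • Submodule.Quotient.mk (p := D) (Pi.single j 1) = 0 := by
        have e : ∑ j, ψ (w j) • Submodule.Quotient.mk (p := D) (Pi.single j 1) =
            D.mkQ (∑ j, ψ (w j) • (Pi.single j 1 : Fin m → A)) := by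
          rw [map_sum]; rfl
        rw [e, Submodule.mkQ_apply, Submodule.Quotient.mk_eq_zero]
        convert hmem using 1
        funext i
        simp [Finset.sum_apply, Pi.single_apply]
      calc ∑ j, ψ (w j) • c j = φ ((1 : K) ⊗ₜ[A] ∑ j, ψ (w j) • Submodule.Quotient.mk (p := D) (Pi.single j 1)) := by
            rw [TensorProduct.tmul_sum, map_sum]
            refine Finset.sum_congr rfl fun j _ => ?_
            rw [TensorProduct.tmul_smul, LinearMap.map_smul_of_tower]
        _ = 0 := by rw [hq, TensorProduct.tmul_zero, map_zero]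
    have hc0 : c = 0 := by
      refine hw c ?_
      let b := Module.Free.chooseBasis A N
      refine (Module.Basis.baseChange K b).ext_elem fun i => ?_
      rw [map_sum, Finsupp.finsetSum_apply, map_zero, Finsupp.zero_apply, ← hc (b.coord i)]
      refine Finset.sum_congr rfl fun j _ => ?_
      rw [Module.Basis.baseChange_repr_tmul, Module.Basis.coord_apply]
    refine TensorProduct.AlgebraTensorModule.ext fun k x => ?_
    obtain ⟨x, rfl⟩ := Submodule.Quotient.mk_surjective D x
    rw [← mul_one k, ← smul_eq_mul, ← TensorProduct.smul_tmul', map_smul, map_smul,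
      pi_eq_sum_univ' x]
    simp only [← Submodule.mkQ_apply, map_sum, map_smul, TensorProduct.tmul_sum, TensorProduct.tmul_smul]
    rw [Finset.sum_eq_zero fun j _ => ?_]
    · simp
    · rw [LinearMap.map_smul_of_tower, show φ (1 ⊗ₜ D.mkQ (Pi.single j 1)) = 0 from congrFun hc0 j, smul_zero]
  haveI : Subsingleton (K ⊗[A] Q) :=
    subsingleton_of_forall_eq 0 fun x => (Module.forall_dual_apply_eq_zero_iff K x).1 fun φ => by
      rw [hQ φ, LinearMap.zero_apply]
  let P := RingHom.ker (algebraMap A K)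
  haveI : P.IsPrime := RingHom.ker_isPrime _
  have hP : ¬ Module.annihilator A Q ≤ P := fun hle => by
    have hnt : (⟨P, inferInstance⟩ : PrimeSpectrum A) ∈ Module.support A Q := Module.mem_support_iff_of_finite.2 hle
    rw [Module.mem_support_iff_nontrivial_residueField_tensorProduct] at hnt
    let φ : P.ResidueField →ₐ[A] K := Ideal.ResidueField.liftₐ P (Algebra.ofId A K) le_rfl (fun x hx => by
      rw [Submonoid.mem_comap, IsUnit.mem_submonoid_iff, isUnit_iff_ne_zero]
      exact fun h0 => hx h0)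
    letI : Algebra P.ResidueField K := φ.toRingHom.toAlgebra
    haveI : IsScalarTower A P.ResidueField K := IsScalarTower.of_algebraMap_eq fun r => (φ.commutes r).symm
    haveI : Nontrivial (P.ResidueField ⊗[A] Q) := hnt
    haveI : Nontrivial (K ⊗[P.ResidueField] (P.ResidueField ⊗[A] Q)) := inferInstance
    have := (TensorProduct.AlgebraTensorModule.cancelBaseChange A P.ResidueField K K Q).symm.toEquiv.nontrivial
    exact not_subsingleton (K ⊗[A] Q) ‹_›
  obtain ⟨h, hh, hhP⟩ := SetLike.not_le_iff_exists.1 hP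
  refine ⟨h, hhP, fun K' _ _ hh' c hc => funext fun j => ?_⟩
  have hmem : h • (Pi.single j 1 : Fin m → A) ∈ D := by
    rw [← Submodule.Quotient.mk_eq_zero, Submodule.Quotient.mk_smul]
    exact Module.mem_annihilator.1 hh _
  obtain ⟨ψ, hψ⟩ := hmem
  have h1 := congrArg (fun z => TensorProduct.AlgebraTensorModule.rid A K' K' (ψ.baseChange K' z)) hc
  simp only [map_sum, map_zero, LinearMap.baseChange_tmul, TensorProduct.AlgebraTensorModule.rid_tmul] at h1
  have hψ' : ∀ i, ψ (w i) = if i = j then h else 0 := fun i => by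
    have := congrFun hψ i
    simp [Pi.single_apply] at this
    simpa using this
  simp only [hψ', ite_smul, zero_smul, Finset.sum_ite_eq', Finset.mem_univ, if_true] at h1
  rw [Algebra.smul_def, mul_eq_zero] at h1
  exact h1.resolve_left hh'

variable {B : Type u} [CommRing B] [Algebra R B] [Algebra.FinitePresentation R B] [Module B M] [IsScalarTower R B M]
  [Module.FinitePresentation B M]

include B

/-- Independence spreads to a constructible neighbourhood. -/
theorem exists_constructible_indep {m : ℕ} (y : Fin m → M) (q : Ideal R) [q.IsPrime] (hy : Indep R y q.ResidueField) :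
    ∃ (P : Ideal R) (h : R), P.FG ∧ P ≤ q ∧ h ∉ q ∧
      ∀ (q' : Ideal R) [q'.IsPrime], P ≤ q' → h ∉ q' → Indep R y q'.ResidueField := by
  obtain ⟨P, f, hPfg, hPq, hfq, hfree⟩ := FlatSyz5.exists_free_piece (R := R) (S := B) M q ‹_›
  let f' : R ⧸ P := Ideal.Quotient.mk P f
  let A := Localization.Away f'
  haveI : Module.Free A (A ⊗[R] M) := hfree A
    (fun x hx => by
      rw [IsScalarTower.algebraMap_apply R (R ⧸ P) A, Ideal.Quotient.algebraMap_eq, Ideal.Quotient.eq_zero_iff_mem.2 hx,
        map_zero])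
    (by
      rw [IsScalarTower.algebraMap_apply R (R ⧸ P) A, Ideal.Quotient.algebraMap_eq]
      exact IsLocalization.Away.algebraMap_isUnit f')
  let w : Fin m → A ⊗[R] M := fun j => (1 : A) ⊗ₜ y j
  have key : ∀ (K : Type u) [Field K] [Algebra R K] [Algebra A K] [IsScalarTower R A K],
      Indep A w K ↔ Indep R y K := by
    intro K _ _ _ _
    let e := TensorProduct.AlgebraTensorModule.cancelBaseChange R A K K M
    have he : ∀ c : Fin m → K, e (∑ j, c j ⊗ₜ[A] w j) = ∑ j, c j ⊗ₜ[R] y j := fun c => by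
      rw [map_sum]
      exact Finset.sum_congr rfl fun j _ => by simp [e, w]
    constructor
    · intro h c hc
      exact h c (e.injective (by rw [he, hc, map_zero]))
    · intro h c hc
      exact h c (by rw [← he, hc, map_zero])
  have lift : ∀ (q' : Ideal R) [q'.IsPrime], P ≤ q' → f ∉ q' →
      ∃ φ : A →ₐ[R] q'.ResidueField, True := fun q' _ hP hf => by
    let φ₀ : R ⧸ P →ₐ[R] q'.ResidueField := Ideal.Quotient.liftₐ P (Algebra.ofId R _)
      fun x hx => Ideal.algebraMap_residueField_eq_zero.2 (hP hx)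
    have hu : ∀ s : Submonoid.powers f', IsUnit (φ₀ s) := by
      rintro ⟨_, k, rfl⟩
      rw [map_pow]
      refine (isUnit_iff_ne_zero.2 fun h0 => hf (Ideal.algebraMap_residueField_eq_zero.1 ?_)).pow k
      exact h0
    exact ⟨IsLocalization.liftAlgHom hu, trivial⟩
  obtain ⟨φ, -⟩ := lift q hPq hfq
  letI : Algebra A q.ResidueField := φ.toRingHom.toAlgebra
  haveI : IsScalarTower R A q.ResidueField := IsScalarTower.of_algebraMap_eq fun r => (φ.commutes r).symm
  obtain ⟨hA, hhA, hgood⟩ := exists_indep_free w q.ResidueField ((key _).2 hy)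
  obtain ⟨⟨h₀, ⟨_, k, rfl⟩⟩, hh₀⟩ := IsLocalization.surj (Submonoid.powers f') hA
  obtain ⟨h₀, rfl⟩ := Ideal.Quotient.mk_surjective h₀
  have himg : ∀ (K : Type u) [Field K] [Algebra R K] [Algebra A K] [IsScalarTower R A K],
      algebraMap R K h₀ = algebraMap A K hA * algebraMap R K f ^ k := fun K _ _ _ _ => by
    rw [IsScalarTower.algebraMap_apply R A K h₀, IsScalarTower.algebraMap_apply R A K f,
      IsScalarTower.algebraMap_apply R (R ⧸ P) A, IsScalarTower.algebraMap_apply R (R ⧸ P) A,
      Ideal.Quotient.algebraMap_eq, ← hh₀, map_mul, map_pow, map_pow]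

  refine ⟨P, f * h₀, hPfg, hPq, fun hm => (Ideal.IsPrime.mem_or_mem ‹_› hm).elim hfq fun h' => hhA ?_, ?_⟩
  · have h1 := himg q.ResidueField
    rw [Ideal.algebraMap_residueField_eq_zero.2 h', eq_comm, mul_eq_zero] at h1
    exact h1.resolve_right (pow_ne_zero _ fun h0 => hfq (Ideal.algebraMap_residueField_eq_zero.1 h0))
  · intro q' _ hP hh'
    have hf' : f ∉ q' := fun h => hh' (Ideal.mul_mem_right _ _ h)
    obtain ⟨φ', -⟩ := lift q' hP hf'
    letI : Algebra A q'.ResidueField := φ'.toRingHom.toAlgebra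
    haveI : IsScalarTower R A q'.ResidueField := IsScalarTower.of_algebraMap_eq fun r => (φ'.commutes r).symm
    refine (key _).1 (hgood _ fun h0 => ?_)
    have h1 := himg q'.ResidueField
    rw [h0, zero_mul] at h1
    exact hh' (Ideal.mul_mem_left _ _ (Ideal.algebraMap_residueField_eq_zero.1 h1))

/-- Independence in the fibre at a prime spreads to a basic open. -/
theorem exists_indep_basicOpen [Module.Flat R M] {m : ℕ} (y : Fin m → M) (p : Ideal R) [p.IsPrime]
    (hy : Indep R y p.ResidueField) : ∃ g ∉ p, ∀ (q : Ideal R) [q.IsPrime], g ∉ q → Indep R y q.ResidueField := by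
  classical
  have hc : @CompactSpace (PrimeSpectrum R) (constructibleTopology (PrimeSpectrum R)) :=
    @Function.Surjective.compactSpace (WithConstructibleTopology (PrimeSpectrum R)) (PrimeSpectrum R) _ (constructibleTopology (PrimeSpectrum R)) _ (WithTopology.continuous_ofTopology _) _
      (WithTopology.ofTopology_surjective _)
  choose P h hPfg hPq hhq hgood using fun q : {q : (PrimeSpectrum R) // q.asIdeal ≤ p} =>
    exists_constructible_indep (B := B) y q.1.asIdeal (indep_of_le y p q.1.asIdeal q.2 hy)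
  let U : {q : (PrimeSpectrum R) // q.asIdeal ≤ p} ⊕ {g : R // g ∉ p} → Set (PrimeSpectrum R) := fun i =>
    Sum.elim (fun q => PrimeSpectrum.zeroLocus (P q : Set R) ∩ (PrimeSpectrum.basicOpen (h q) : Set (PrimeSpectrum R)))
      (fun g => PrimeSpectrum.zeroLocus ({g.1} : Set R)) i
  have hZ : ∀ I : Ideal R, I.FG → IsOpen[constructibleTopology (PrimeSpectrum R)] (PrimeSpectrum.zeroLocus (I : Set R)) := fun I hI =>
    IsCompact.isOpen_constructibleTopology_of_isClosed
      ((PrimeSpectrum.isCompact_isOpen_iff_ideal).2 ⟨I, hI, rfl⟩).1 (PrimeSpectrum.isClosed_zeroLocus _)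
  have hU : ∀ i, IsOpen[constructibleTopology (PrimeSpectrum R)] (U i) := by
    rintro (q | g)
    · exact @IsOpen.inter (PrimeSpectrum R) (constructibleTopology (PrimeSpectrum R)) _ _ (hZ _ (hPfg q))
        ((PrimeSpectrum.isCompact_basicOpen (h q)).isOpen_constructibleTopology_of_isOpen
          (PrimeSpectrum.basicOpen (h q)).isOpen)
    · show IsOpen[constructibleTopology (PrimeSpectrum R)] (PrimeSpectrum.zeroLocus ({g.1} : Set R))
      rw [← PrimeSpectrum.zeroLocus_span]
      exact hZ _ (Submodule.fg_span_singleton _)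
  have hcov : Set.univ ⊆ ⋃ i, U i := by
    intro q _
    by_cases hq : q.asIdeal ≤ p
    · exact Set.mem_iUnion.2 ⟨Sum.inl ⟨q, hq⟩, hPq ⟨q, hq⟩, hhq ⟨q, hq⟩⟩
    · obtain ⟨g, hg, hgp⟩ := SetLike.not_le_iff_exists.1 hq
      exact Set.mem_iUnion.2 ⟨Sum.inr ⟨g, hgp⟩, Set.singleton_subset_iff.2 hg⟩
  obtain ⟨t, ht⟩ : ∃ t : Finset _, Set.univ ⊆ ⋃ i ∈ t, U i := by
    letI := constructibleTopology (PrimeSpectrum R)
    haveI := hc
    exact isCompact_univ.elim_finite_subcover U hU hcov
  refine ⟨∏ g ∈ t.toRight, g.1, fun hm => ?_, fun q _ hq => ?_⟩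
  · obtain ⟨g, -, hg⟩ := (Ideal.IsPrime.prod_mem_iff).1 hm
    exact g.2 hg
  · obtain ⟨i, hit, hi⟩ := Set.mem_iUnion₂.1 (ht (Set.mem_univ (⟨q, inferInstance⟩ : (PrimeSpectrum R))))
    rcases i with a | g
    · exact hgood a q hi.1 hi.2
    · exact absurd (Ideal.prod_mem _ (Finset.mem_toRight.2 hit) (Set.singleton_subset_iff.1 hi)) hq

end Groth.Agent.ProjLocalFree
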